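import Mathlib.Algebra.Lie.UniversalEnveloping
import Mathlib.Algebra.Lie.OfAssociative
import Mathlib.LinearAlgebra.Basis.Basic
import Mathlib.LinearAlgebra.Finsupp.LinearCombination
import Mathlib.LinearAlgebra.TensorAlgebra.Basic
import Mathlib.Data.List.Sort

/-!
# The Poincaré–Birkhoff–Witt theorem

For a Lie algebra `L` over a commutative ring `k` with a basis indexed by a linearly ordered type, the
ordered monomials form a basis of the universal enveloping algebra. The proof constructs the action of
`L` on the free module on sorted words (Dixmier, 2.1).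
-/

universe u v w

namespace Groth.Agent.PBW

variable {k : Type u} [CommRing k] {L : Type v} [LieRing L] [LieAlgebra k L]
  {ι : Type w} [LinearOrder ι] (b : Module.Basis ι k L)

/-- Sorted words. -/
abbrev W (ι : Type w) [LinearOrder ι] : Type w := {l : List ι // l.SortedLE}

/-- Insertion of a letter in a sorted word. -/
def ins (i : ι) (l : W ι) : W ι :=
  ⟨l.1.orderedInsert (· ≤ ·) i, (List.Pairwise.orderedInsert i _ l.2.pairwise).sortedLE⟩

theorem length_ins (i : ι) (l : W ι) : (ins i l).1.length = l.1.length + 1 :=
  List.orderedInsert_length (· ≤ ·) l.1 i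

/-- `i` is at most every letter of `l`. -/
def Le (i : ι) (l : W ι) : Prop := ∀ x ∈ l.1, i ≤ x

theorem le_ins {j i : ι} {l : W ι} (hji : j ≤ i) (hjl : Le j l) : Le j (ins i l) := fun x hx => by
  rcases (List.mem_orderedInsert (r := (· ≤ ·))).mp hx with rfl | hx
  · exact hji
  · exact hjl x hx

/-- Prepend a minimal letter. -/
def cons (i : ι) (l : W ι) (h : Le i l) : W ι :=
  ⟨i :: l.1, (List.pairwise_cons.mpr ⟨h, l.2.pairwise⟩).sortedLE⟩

theorem ins_eq_cons {i : ι} {l : W ι} (h : Le i l) : ins i l = cons i l h := by
  apply Subtype.ext
  rcases hl : l.1 with _ | ⟨j, t⟩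
  · simp [ins, cons, hl]
  · simp [ins, cons, hl, h j (by simp [hl])]

/-- Tail of a nonempty sorted word. -/
def tl {j : ι} {t : List ι} (h : (j :: t).SortedLE) : W ι :=
  ⟨t, h.pairwise.of_cons.sortedLE⟩

theorem le_tl {j : ι} {t : List ι} (h : (j :: t).SortedLE) : Le j (tl h) :=
  fun _ hx => (List.pairwise_cons.mp h.pairwise).1 _ hx

/-- The action of a basis vector on a sorted word. -/
noncomputable def act (i : ι) : W ι → (W ι →₀ k)
  | ⟨[], _⟩ => Finsupp.single ⟨[i], (List.pairwise_singleton _ i).sortedLE⟩ 1
  | ⟨j :: t, h⟩ =>
    if hij : i ≤ j then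
      Finsupp.single (cons i ⟨j :: t, h⟩ (by
        intro x hx
        rcases List.mem_cons.mp hx with rfl | hx
        · exact hij
        · exact hij.trans (le_tl h x hx))) 1
    else
      Finsupp.single (cons j (ins i (tl h)) (le_ins (le_of_not_ge hij) (le_tl h))) 1
        + ((act i (tl h) - Finsupp.single (ins i (tl h)) 1).sum fun m c =>
            if _hm : m.1.length ≤ t.length then c • act j m else 0)
        + ((b.repr ⁅b i, b j⁆).sum fun l c => c • act l (tl h))
termination_by l => l.1.length
decreasing_by all_goals (simp only [tl, List.length_cons]; omega)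

/-- The action of `L` on the free module on sorted words. -/
noncomputable def rho : L →ₗ[k] Module.End k (W ι →₀ k) :=
  b.constr k fun i => Finsupp.linearCombination k (act b i)

theorem rho_single (i : ι) (l : W ι) : rho b (b i) (Finsupp.single l 1) = act b i l := by
  simp [rho]

theorem rho_apply_single (x : L) (l : W ι) :
    rho b x (Finsupp.single l 1) = (b.repr x).sum fun m c => c • act b m l := by
  conv_lhs => rw [← b.linearCombination_repr x, Finsupp.linearCombination_apply]
  simp [Finsupp.sum, rho_single]

theorem act_of_le {i : ι} {l : W ι} (h : Le i l) : act b i l = Finsupp.single (cons i l h) 1 := by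
  obtain ⟨_ | ⟨j, t⟩, hl⟩ := l
  · rw [act]; rfl
  · rw [act, dif_pos (h j (List.mem_cons_self))]

/-- The error term `act i l - single (ins i l)`. -/
noncomputable def err (i : ι) (l : W ι) : W ι →₀ k := act b i l - Finsupp.single (ins i l) 1

theorem err_of_le {i : ι} {l : W ι} (h : Le i l) : err b i l = 0 := by
  rw [err, act_of_le b h, ins_eq_cons h, sub_self]

/-- The words of length at most `n`. -/
def short (ι : Type w) [LinearOrder ι] (n : ℕ) : Set (W ι) := {m | m.1.length ≤ n}

theorem act_mem (n : ℕ) : ∀ (i : ι) (l : W ι), l.1.length ≤ n →
    err b i l ∈ Finsupp.supported k k (short ι l.1.length) ∧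
      act b i l ∈ Finsupp.supported k k (short ι (l.1.length + 1)) := by
  induction n with
  | zero =>
    intro i l hl
    have hl' : l.1 = [] := List.length_eq_zero_iff.mp (Nat.le_zero.mp hl)
    have hle : Le i l := fun x hx => by simp [hl'] at hx
    refine ⟨by rw [err_of_le b hle]; exact zero_mem _, ?_⟩
    rw [act_of_le b hle]
    exact Finsupp.single_mem_supported k 1 (by simp [short, cons])
  | succ n ih =>
    intro i l hl
    suffices h : err b i l ∈ Finsupp.supported k k (short ι l.1.length) by
      refine ⟨h, ?_⟩
      rw [show act b i l = err b i l + Finsupp.single (ins i l) 1 by simp [err]]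
      exact add_mem (Finsupp.supported_mono (fun m hm => Nat.le_succ_of_le hm) h)
        (Finsupp.single_mem_supported k 1 (length_ins i l).le)
    obtain ⟨_ | ⟨j, t⟩, hs⟩ := l
    · rw [err_of_le b (fun x hx => by simp at hx)]; exact zero_mem _
    by_cases hij : i ≤ j
    · rw [err_of_le b (l := ⟨j :: t, hs⟩) fun x hx => ?_]
      · exact zero_mem _
      · rcases List.mem_cons.mp hx with rfl | hx
        · exact hij
        · exact hij.trans (le_tl hs x hx)
    have hins : ins i ⟨j :: t, hs⟩ = cons j (ins i (tl hs)) (le_ins (le_of_not_ge hij) (le_tl hs)) := by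
      apply Subtype.ext
      simp [ins, cons, tl, hij]
    rw [err, act, dif_neg hij, hins]
    simp only [List.length_cons] at hl ⊢
    rw [add_sub_right_comm, add_sub_cancel_left']
    refine add_mem (Submodule.sum_mem _ fun m _ => ?_) (Submodule.sum_mem _ fun m _ => ?_)
    · dsimp only
      split_ifs with hm
      · exact Submodule.smul_mem _ _ (Finsupp.supported_mono
          (show short ι (m.1.length + 1) ⊆ short ι (t.length + 1) from fun x (hx : x.1.length ≤ m.1.length + 1) => show x.1.length ≤ t.length + 1 by omega)
          (ih j m (by omega)).2)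
      · exact zero_mem _
    · exact Submodule.smul_mem _ _ (ih m (tl hs) (by simp only [tl]; omega)).2
where
  add_sub_cancel_left' {G : Type _} [AddCommGroup G] {a b c : G} : a + b - a + c = b + c := by abel

/-- The recursion equation without guards. -/
theorem act_cons {i j : ι} {t : W ι} (hjt : Le j t) (hij : j < i) :
    act b i (cons j t hjt) =
      rho b (b j) (act b i t) + rho b ⁅b i, b j⁆ (Finsupp.single t 1) := by
  obtain ⟨t, ht⟩ := t
  rw [cons, act, dif_neg (not_le.mpr hij), rho_apply_single]
  congr 1
  set w := err b i ⟨t, ht⟩ with hw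
  have hact : act b i ⟨t, ht⟩ = Finsupp.single (ins i ⟨t, ht⟩) 1 + w := by simp [hw, err]
  conv_rhs => rw [hact, map_add, rho_single, act_of_le b (le_ins hij.le hjt)]
  congr 1
  change (w.sum fun m c => _) = _
  conv_rhs => rw [rho, b.constr_basis, Finsupp.linearCombination_apply]
  refine Finsupp.sum_congr fun m hm => ?_
  exact dif_pos ((act_mem b t.length i ⟨t, ht⟩ le_rfl).1 hm)

/-- The commutation relation holds when the smaller letter is at most the whole word. -/
theorem comm_of_le {i j : ι} {l : W ι} (hjl : Le j l) (hij : j < i) :
    rho b (b i) (rho b (b j) (Finsupp.single l 1)) - rho b (b j) (rho b (b i) (Finsupp.single l 1)) =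
      rho b ⁅b i, b j⁆ (Finsupp.single l 1) := by
  rw [rho_single b j, act_of_le b hjl, rho_single, act_cons b hjl hij, rho_single]
  abel

/-- `rho` is a representation on words of length `≤ n`. -/
theorem comm_basis (n : ℕ) : ∀ (i j : ι) (l : W ι), l.1.length ≤ n →
    rho b (b i) (rho b (b j) (Finsupp.single l 1)) - rho b (b j) (rho b (b i) (Finsupp.single l 1)) =
      rho b ⁅b i, b j⁆ (Finsupp.single l 1) := by
  induction n using Nat.strong_induction_on with
  | _ n ih =>
    -- the relation on short vectors, for arbitrary elements of `L`
    have key : ∀ (x y : L) (m : ℕ), m < n → ∀ z ∈ Finsupp.supported k k (short ι m),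
        rho b x (rho b y z) - rho b y (rho b x z) = rho b ⁅x, y⁆ z := by
      intro x y m hm z hz
      rw [Finsupp.supported_eq_span_single] at hz
      induction hz using Submodule.span_induction with
      | mem z hz =>
        obtain ⟨l, hl, rfl⟩ := hz
        induction b.mem_span x using Submodule.span_induction with
        | mem x hx =>
          obtain ⟨i, rfl⟩ := hx
          induction b.mem_span y using Submodule.span_induction with
          | mem y hy =>
            obtain ⟨j, rfl⟩ := hy
            exact ih m hm i j l hl
          | zero => simp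
          | add p q _ _ hp hq =>
            simp only [map_add, LinearMap.add_apply, lie_add, ← hp, ← hq]; abel
          | smul c p _ hp =>
            simp only [map_smul, LinearMap.smul_apply, lie_smul, ← hp, smul_sub]
        | zero => simp
        | add p q _ _ hp hq =>
          simp only [map_add, LinearMap.add_apply, add_lie, ← hp, ← hq]; abel
        | smul c p _ hp =>
          simp only [map_smul, LinearMap.smul_apply, smul_lie, ← hp, smul_sub]
      | zero => simp
      | add p q _ _ hp hq => simp only [map_add, ← hp, ← hq]; abel
      | smul c p _ hp => simp only [map_smul, ← hp, smul_sub]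
    intro i j l hln
    rcases lt_trichotomy i j with h | rfl | h
    · by_cases hil : Le i l
      · rw [← neg_sub, comm_of_le b hil h, ← lie_skew (b i) (b j), map_neg, LinearMap.neg_apply]
      · obtain ⟨_ | ⟨c, t⟩, hs⟩ := l
        · exact absurd (fun x hx => by simp at hx) hil
        have hci : c < i := by
          by_contra hc
          exact hil fun x hx => by
            rcases List.mem_cons.mp hx with rfl | hx
            · exact le_of_not_gt hc
            · exact (le_of_not_gt hc).trans (le_tl hs x hx)
        exact aux i j c ⟨t, (tl hs).2⟩ (le_tl hs) hci (hci.trans h)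
          (by simp only [List.length_cons] at hln; exact hln) key
    · simp
    · by_cases hjl : Le j l
      · exact comm_of_le b hjl h
      · obtain ⟨_ | ⟨c, t⟩, hs⟩ := l
        · exact absurd (fun x hx => by simp at hx) hjl
        have hcj : c < j := by
          by_contra hc
          exact hjl fun x hx => by
            rcases List.mem_cons.mp hx with rfl | hx
            · exact le_of_not_gt hc
            · exact (le_of_not_gt hc).trans (le_tl hs x hx)
        exact aux i j c ⟨t, (tl hs).2⟩ (le_tl hs) (hcj.trans h) hcj
          (by simp only [List.length_cons] at hln; exact hln) key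
where
  aux {n : ℕ} (i j c : ι) (t : W ι) (hct : Le c t) (hci : c < i) (hcj : c < j)
      (ht : t.1.length + 1 ≤ n)
      (key : ∀ (x y : L) (m : ℕ), m < n → ∀ z ∈ Finsupp.supported k k (short ι m),
        rho b x (rho b y z) - rho b y (rho b x z) = rho b ⁅x, y⁆ z) :
      rho b (b i) (rho b (b j) (Finsupp.single (cons c t hct) 1))
        - rho b (b j) (rho b (b i) (Finsupp.single (cons c t hct) 1)) =
      rho b ⁅b i, b j⁆ (Finsupp.single (cons c t hct) 1) := by
    set z := Finsupp.single t (1 : k)
    have hz : z ∈ Finsupp.supported k k (short ι t.1.length) :=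
      Finsupp.single_mem_supported k 1 (show t ∈ short ι t.1.length from Nat.le_refl _)
    have hc : Finsupp.single (cons c t hct) 1 = rho b (b c) z := by rw [rho_single, act_of_le b hct]
    -- the commutator with `c` applied to `a · t`
    have mid : ∀ a d : ι, c < a → c < d →
        rho b (b d) (rho b (b c) (rho b (b a) z)) - rho b (b c) (rho b (b d) (rho b (b a) z)) =
          rho b ⁅b d, b c⁆ (rho b (b a) z) := by
      intro a d hca hcd
      have h1 : rho b (b a) z = Finsupp.single (ins a t) 1 + err b a t := by simp [z, rho_single, err]
      have h2 := key (b d) (b c) t.1.length (by omega) _ (act_mem b _ a t le_rfl).1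
      have h3 := comm_of_le b (le_ins hca.le hct) hcd
      rw [h1]
      simp only [map_add, ← h2, ← h3]
      abel
    have k1 : ∀ x y : L, rho b x (rho b y z) - rho b y (rho b x z) = rho b ⁅x, y⁆ z :=
      fun x y => key x y t.1.length (by omega) z hz
    rw [hc]
    -- `e_a e_c t = e_c e_a t + [e_a, e_c] t`
    have ej : rho b (b j) (rho b (b c) z) = rho b (b c) (rho b (b j) z) + rho b ⁅b j, b c⁆ z := by
      rw [← k1]; abel
    have ei : rho b (b i) (rho b (b c) z) = rho b (b c) (rho b (b i) z) + rho b ⁅b i, b c⁆ z := by
      rw [← k1]; abel
    rw [ej, ei, map_add, map_add]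
    have mi := mid j i hcj hci
    have mj := mid i j hci hcj
    rw [sub_eq_iff_eq_add] at mi mj
    rw [mi, mj]
    have e1 := k1 (b i) ⁅b j, b c⁆
    have e2 := k1 (b j) ⁅b i, b c⁆
    have e3 : rho b (b c) (rho b (b i) (rho b (b j) z)) - rho b (b c) (rho b (b j) (rho b (b i) z)) =
        rho b (b c) (rho b ⁅b i, b j⁆ z) := by rw [← map_sub, k1]
    have e4 := k1 ⁅b i, b j⁆ (b c)
    rw [sub_eq_iff_eq_add] at e1 e2 e3 e4
    rw [e1, e2, e3, e4, leibniz_lie (b i) (b j) (b c), map_add, LinearMap.add_apply]
    abel

theorem rho_lie (x y : L) : rho b ⁅x, y⁆ = rho b x * rho b y - rho b y * rho b x := by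
  apply Finsupp.lhom_ext'
  intro l
  apply LinearMap.ext_ring
  simp only [LinearMap.comp_apply, Finsupp.lsingle_apply, LinearMap.sub_apply, Module.End.mul_apply]
  induction b.mem_span x using Submodule.span_induction with
  | mem x hx =>
    obtain ⟨i, rfl⟩ := hx
    induction b.mem_span y using Submodule.span_induction with
    | mem y hy =>
      obtain ⟨j, rfl⟩ := hy
      exact (comm_basis b l.1.length i j l le_rfl).symm
    | zero => simp
    | add p q _ _ hp hq => simp only [map_add, LinearMap.add_apply, lie_add, hp, hq]; abel
    | smul c p _ hp => simp only [map_smul, LinearMap.smul_apply, lie_smul, hp, smul_sub]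
  | zero => simp
  | add p q _ _ hp hq => simp only [map_add, LinearMap.add_apply, add_lie, hp, hq]; abel
  | smul c p _ hp => simp only [map_smul, LinearMap.smul_apply, smul_lie, hp, smul_sub]

attribute [local instance 100] LieRing.ofAssociativeRing in
/-- The representation as a homomorphism of Lie algebras. -/
noncomputable def rhoLie : L →ₗ⁅k⁆ Module.End k (W ι →₀ k) :=
  { rho b with map_lie' := fun {x y} => rho_lie b x y }

/-- The action of the enveloping algebra on the free module on sorted words. -/
noncomputable def envAct : UniversalEnvelopingAlgebra k L →ₐ[k] Module.End k (W ι →₀ k) :=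
  UniversalEnvelopingAlgebra.lift k (rhoLie b)

theorem envAct_ι (x : L) : envAct b (UniversalEnvelopingAlgebra.ι k x) = rho b x :=
  UniversalEnvelopingAlgebra.lift_ι_apply k _ x

/-- The monomial of a sorted word. -/
noncomputable def mono (l : W ι) : UniversalEnvelopingAlgebra k L :=
  (l.1.map fun i => UniversalEnvelopingAlgebra.ι k (b i)).prod

theorem mono_cons {i : ι} {l : W ι} (h : Le i l) :
    mono b (cons i l h) = UniversalEnvelopingAlgebra.ι k (b i) * mono b l := by
  simp [mono, cons]

/-- The empty word. -/
def nil : W ι := ⟨[], List.Pairwise.nil.sortedLE⟩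

theorem envAct_mono (l : W ι) : envAct b (mono b l) (Finsupp.single nil 1) = Finsupp.single l 1 := by
  obtain ⟨l, hl⟩ := l
  induction l with
  | nil => simp [mono]; rfl
  | cons j t ih =>
    rw [show (⟨j :: t, hl⟩ : W ι) = cons j (tl hl) (le_tl hl) from rfl, mono_cons, map_mul,
      Module.End.mul_apply, envAct_ι]
    refine (congrArg (rho b (b j)) (ih (tl hl).2)).trans ?_
    rw [← act_of_le b (le_tl hl)]
    exact rho_single b j (tl hl)

/-- The map from the free module on sorted words. -/
noncomputable def toEnv : (W ι →₀ k) →ₗ[k] UniversalEnvelopingAlgebra k L :=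
  Finsupp.linearCombination k (mono b)

attribute [local instance 100] LieRing.ofAssociativeRing in
theorem mul_mono (n : ℕ) : ∀ (i : ι) (l : W ι), l.1.length ≤ n →
    UniversalEnvelopingAlgebra.ι k (b i) * mono b l = toEnv b (act b i l) := by
  induction n using Nat.strong_induction_on with
  | _ n ih =>
    intro i l hl
    by_cases hil : Le i l
    · rw [act_of_le b hil, toEnv, Finsupp.linearCombination_single, one_smul, mono_cons]
    obtain ⟨_ | ⟨j, t⟩, hs⟩ := l
    · exact absurd (fun x hx => by simp at hx) hil
    have hji : j < i := by
      by_contra hc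
      exact hil fun x hx => by
        rcases List.mem_cons.mp hx with rfl | hx
        · exact le_of_not_gt hc
        · exact (le_of_not_gt hc).trans (le_tl hs x hx)
    simp only [List.length_cons] at hl
    have hrec : ∀ (y : L) (z : W ι →₀ k), z ∈ Finsupp.supported k k (short ι t.length) →
        UniversalEnvelopingAlgebra.ι k y * toEnv b z = toEnv b (rho b y z) := by
      intro y z hz
      rw [Finsupp.supported_eq_span_single] at hz
      induction hz using Submodule.span_induction with
      | mem z hz =>
        obtain ⟨m, hm, rfl⟩ := hz
        induction b.mem_span y using Submodule.span_induction with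
        | mem y hy =>
          obtain ⟨a, rfl⟩ := hy
          rw [rho_single, toEnv, Finsupp.linearCombination_single, one_smul]
          exact ih t.length (by omega) a m hm
        | zero => simp
        | add p q _ _ hp hq => simp only [map_add, LinearMap.add_apply, add_mul, hp, hq]
        | smul c p _ hp => simp only [map_smul, LinearMap.smul_apply, Algebra.smul_mul_assoc, hp]
      | zero => simp
      | add p q _ _ hp hq => simp only [map_add, mul_add, hp, hq]
      | smul c p _ hp => simp only [map_smul, Algebra.mul_smul_comm, hp]
    set T := tl hs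
    have hT : T.1.length = t.length := rfl
    rw [show (⟨j :: t, hs⟩ : W ι) = cons j T (le_tl hs) from rfl, act_cons b (le_tl hs) hji,
      mono_cons, map_add, ← hrec _ _ (Finsupp.single_mem_supported k 1 (show T ∈ short ι t.length from hT.le))]
    have h1 : toEnv b (rho b (b j) (act b i T)) =
        UniversalEnvelopingAlgebra.ι k (b j) * toEnv b (act b i T) := by
      rw [show act b i T = Finsupp.single (ins i T) 1 + err b i T by simp [err], map_add, map_add,
        map_add, mul_add, hrec (b j) (err b i T) (hT ▸ (act_mem b _ i T le_rfl).1), rho_single,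
        act_of_le b (le_ins hji.le (le_tl hs))]
      congr 1
      simp [toEnv, mono_cons]
      rfl
    rw [h1, ← ih t.length (by omega) i T hT.le, toEnv, Finsupp.linearCombination_single, one_smul,
      LieHom.map_lie, LieRing.of_associative_ring_bracket]
    rw [sub_mul, mul_assoc, mul_assoc, add_sub_cancel]

theorem toEnv_envAct (u : UniversalEnvelopingAlgebra k L) :
    ∀ z, toEnv b (envAct b u z) = u * toEnv b z := by
  obtain ⟨t, rfl⟩ : ∃ t, UniversalEnvelopingAlgebra.mkAlgHom k L t = u :=
    RingCon.mkₐ_surjective (α := k) (c := UniversalEnvelopingAlgebra.ringCon k L) u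
  induction t using TensorAlgebra.induction with
  | algebraMap r =>
    intro z
    simp [Algebra.smul_def]
  | ι x =>
    intro z
    change toEnv b (envAct b (UniversalEnvelopingAlgebra.ι k x) z) = UniversalEnvelopingAlgebra.ι k x * _
    rw [envAct_ι]
    induction z using Finsupp.induction_linear with
    | zero => simp
    | add p q hp hq => simp only [map_add, mul_add, hp, hq]
    | single l c =>
      rw [← mul_one c, ← smul_eq_mul, ← Finsupp.smul_single, map_smul, map_smul, map_smul,
        Algebra.mul_smul_comm]
      congr 1
      induction b.mem_span x using Submodule.span_induction with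
      | mem x hx =>
        obtain ⟨i, rfl⟩ := hx
        rw [rho_single, toEnv, Finsupp.linearCombination_single, one_smul]
        exact (mul_mono b l.1.length i l le_rfl).symm
      | zero => simp
      | add p q _ _ hp hq => simp only [map_add, LinearMap.add_apply, add_mul, hp, hq]
      | smul c p _ hp => simp only [map_smul, LinearMap.smul_apply, Algebra.smul_mul_assoc, hp]
  | mul p q hp hq =>
    intro z
    rw [map_mul, map_mul, Module.End.mul_apply, hp, hq, mul_assoc]
  | add p q hp hq =>
    intro z
    simp only [map_add, LinearMap.add_apply, hp, hq, add_mul]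

/-- The enveloping algebra is free on sorted words. -/
noncomputable def envEquiv : (W ι →₀ k) ≃ₗ[k] UniversalEnvelopingAlgebra k L :=
  LinearEquiv.ofLinear (toEnv b)
    (LinearMap.applyₗ (Finsupp.single (nil : W ι) (1 : k)) ∘ₗ (envAct b).toLinearMap)
    (LinearMap.ext fun u => by
      simp only [LinearMap.comp_apply, AlgHom.toLinearMap_apply, LinearMap.id_coe, id_eq]
      rw [show (LinearMap.applyₗ (Finsupp.single (nil : W ι) (1 : k))) (envAct b u) = envAct b u (Finsupp.single nil 1) from rfl,
        toEnv_envAct b u]
      simp [toEnv, mono, nil])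
    (Finsupp.lhom_ext' fun l => LinearMap.ext_ring (by simp [toEnv, envAct_mono]))

/-- **Poincaré–Birkhoff–Witt**: the ordered monomials form a basis of the enveloping algebra. -/
noncomputable def basis : Module.Basis (W ι) k (UniversalEnvelopingAlgebra k L) :=
  Module.Basis.ofRepr (envEquiv b).symm

theorem basis_apply (l : W ι) : basis b l = mono b l := by
  rw [basis, Module.Basis.apply_eq_iff]
  change (envEquiv b).symm (mono b l) = _
  rw [LinearEquiv.symm_apply_eq]
  simp [envEquiv, toEnv]

end Groth.Agent.PBW
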